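import Groth.Agent.FittX.Ideal
import Groth.Agent.S6889
import Mathlib

/-! The Kähler different of a presentation with as many equations as variables. -/

set_option autoImplicit false
noncomputable section

namespace Groth.Agent.Disc957

open TensorProduct MvPolynomial KaehlerDifferential

universe u

variable (A : Type u) [CommRing A] (n : ℕ) (f : Fin n → MvPolynomial (Fin n) A)

local notation "BB" => MvPolynomial (Fin n) A ⧸ Ideal.span (Set.range f)

/-- The Jacobian matrix over the quotient. -/
def jac : Matrix (Fin n) (Fin n) BB :=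
  Matrix.of fun i j => Ideal.Quotient.mk _ (pderiv j (f i))

theorem det_jac : (jac A n f).det = Ideal.Quotient.mk (Ideal.span (Set.range f))
    (Matrix.det (Matrix.of fun i j => pderiv j (f i))) :=
  (RingHom.map_det _ _).symm

theorem one_smul_omega (x : Ω[BB⁄A]) : (1 : BB) • x = x := one_smul BB x

/-- The differentials of the variables. -/
def gen (j : Fin n) : Ω[BB⁄A] := D A BB (Ideal.Quotient.mk _ (X j))

theorem mapBaseChange_basis (j : Fin n) :
    mapBaseChange A (MvPolynomial (Fin n) A) BB
      (((mvPolynomialBasis A (Fin n)).baseChange BB) j) = gen A n f j := by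
  rw [Module.Basis.baseChange_apply, mvPolynomialBasis_apply, mapBaseChange_tmul]
  rw [one_smul_omega, map_D]
  rfl

theorem span_gen : Submodule.span BB (Set.range (gen A n f)) = ⊤ := by
  have h := congrArg (Submodule.map (mapBaseChange A (MvPolynomial (Fin n) A) BB))
    ((mvPolynomialBasis A (Fin n)).baseChange BB).span_eq
  rw [Submodule.map_span, ← Set.range_comp, Submodule.map_top,
    LinearMap.range_eq_top.mpr (mapBaseChange_surjective A (MvPolynomial (Fin n) A) BB
      Ideal.Quotient.mk_surjective)] at h
  rw [← h]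
  congr 2
  exact funext fun j => (mapBaseChange_basis A n f j).symm

theorem coord_D (p : MvPolynomial (Fin n) A) (j : Fin n) :
    ((mvPolynomialBasis A (Fin n)).baseChange BB).repr
      ((1 : BB) ⊗ₜ[MvPolynomial (Fin n) A] D A (MvPolynomial (Fin n) A) p) j =
        Ideal.Quotient.mk _ (pderiv j p) := by
  rw [Module.Basis.baseChange_repr_tmul, mvPolynomialBasis_repr_apply, Algebra.smul_def, mul_one]
  rfl

theorem row_rel (i : Fin n) : ∑ j, jac A n f i j • gen A n f j = 0 := by
  have h : (1 : BB) ⊗ₜ[MvPolynomial (Fin n) A] D A (MvPolynomial (Fin n) A) (f i) =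
      ∑ j, jac A n f i j • ((mvPolynomialBasis A (Fin n)).baseChange BB) j := by
    conv_lhs => rw [← ((mvPolynomialBasis A (Fin n)).baseChange BB).sum_repr
      ((1 : BB) ⊗ₜ[MvPolynomial (Fin n) A] D A (MvPolynomial (Fin n) A) (f i))]
    exact Finset.sum_congr rfl fun j _ => by rw [coord_D]; rfl
  have h2 := congrArg (mapBaseChange A (MvPolynomial (Fin n) A) BB) h
  rw [mapBaseChange_tmul] at h2
  rw [one_smul_omega, map_D, map_sum] at h2
  simp only [map_smul, mapBaseChange_basis] at h2
  rw [← h2, show algebraMap (MvPolynomial (Fin n) A) BB (f i) = 0 from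
    Ideal.Quotient.eq_zero_iff_mem.mpr (Ideal.subset_span ⟨i, rfl⟩), map_zero]

theorem rel_le (z : Fin n → BB) (hz : ∑ j, z j • gen A n f j = 0) :
    ∃ c : Fin n → BB, ∀ j, z j = ∑ i, c i * jac A n f i j := by
  let b := (mvPolynomialBasis A (Fin n)).baseChange BB
  have hw : mapBaseChange A (MvPolynomial (Fin n) A) BB (∑ j, z j • b j) = 0 := by
    rw [map_sum]
    simpa only [b, map_smul, mapBaseChange_basis] using hz
  obtain ⟨y, hy⟩ := (exact_kerCotangentToTensor_mapBaseChange A (MvPolynomial (Fin n) A) BB
    Ideal.Quotient.mk_surjective _).mp hw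
  obtain ⟨⟨p, hp⟩, rfl⟩ := Ideal.toCotangent_surjective _ y
  rw [kerCotangentToTensor_toCotangent] at hy
  have hp' : p ∈ Ideal.span (Set.range f) := Ideal.Quotient.eq_zero_iff_mem.mp hp
  obtain ⟨r, rfl⟩ := Ideal.mem_span_range_iff_exists_fun.mp hp'
  refine ⟨fun i => Ideal.Quotient.mk _ (r i), fun j => ?_⟩
  have h2 := congrArg (fun w => b.repr w j) hy
  simp only [b, coord_D] at h2
  rw [map_sum] at h2
  have h3 : ((mvPolynomialBasis A (Fin n)).baseChange BB).repr
      (∑ j, z j • ((mvPolynomialBasis A (Fin n)).baseChange BB) j) j = z j :=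
    congrFun (((mvPolynomialBasis A (Fin n)).baseChange BB).repr_sum_self z) j
  rw [h3] at h2
  rw [← h2, map_sum]
  refine Finset.sum_congr rfl fun i _ => ?_
  rw [Derivation.leibniz, smul_eq_mul, smul_eq_mul, map_add, map_mul, map_mul,
    show Ideal.Quotient.mk (Ideal.span (Set.range f)) (f i) = 0 from
      Ideal.Quotient.eq_zero_iff_mem.mpr (Ideal.subset_span ⟨i, rfl⟩), zero_mul, add_zero]
  rfl

theorem fitting_eq :
    Fitt.ideal BB Ω[BB⁄A] 0 = Ideal.span {Ideal.Quotient.mk (Ideal.span (Set.range f))
      (Matrix.det (Matrix.of fun i j => pderiv j (f i)))} := by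
  classical
  rw [← det_jac, Groth.Agent.S6889.result (gen A n f) (span_gen A n f) 0]
  apply le_antisymm
  · rw [Ideal.span_le]
    rintro d ⟨z, e, hz, rfl⟩
    choose c hc using fun b => rel_le A n f (z b) (hz b)
    rw [SetLike.mem_coe, Ideal.mem_span_singleton]
    have hM : (Matrix.of fun a b => z b (e a)) =
        ((jac A n f).transpose.submatrix e id) * (Matrix.of c).transpose := by
      ext a b
      simp only [Matrix.of_apply, Matrix.mul_apply, Matrix.submatrix_apply, Matrix.transpose_apply,
        id_eq, hc b (e a), mul_comm]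
    rw [hM]
    erw [Matrix.det_mul]
    refine Dvd.dvd.mul_right ?_ _
    by_cases he : Function.Injective e
    · let σ : Fin n ≃ Fin n := Equiv.ofBijective e (Finite.injective_iff_bijective.mp he)
      have : (jac A n f).transpose.submatrix e id = (jac A n f).transpose.submatrix σ id := rfl
      erw [this, Matrix.det_permute, Matrix.det_transpose]
      exact dvd_mul_left _ _
    · obtain ⟨a, b, hab, hne⟩ : ∃ a b, e a = e b ∧ a ≠ b := by
        by_contra h
        push_neg at h
        exact he fun a b hab => h a b hab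
      have h0 : ((jac A n f).transpose.submatrix e id).det = 0 :=
        Matrix.det_zero_of_row_eq hne (funext fun k => by simp only [Matrix.submatrix_apply, hab])
      exact h0.symm ▸ dvd_zero _
  · rw [Ideal.span_singleton_le_iff_mem]
    refine Ideal.subset_span ⟨jac A n f, id, fun i => row_rel A n f i, ?_⟩
    exact (Matrix.det_transpose _).symm

end Groth.Agent.Disc957
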