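import Groth.Prelude.Def_Disc
import Groth.Agent.Synt29.KoszulSyntomic
import Groth.Agent.S2235
import Groth.Agent.S9254
import Groth.Agent.S9147
import Mathlib

/-! The Noether different of a quasi-finite presentation with as many equations as variables. -/

set_option autoImplicit false
noncomputable section

namespace Groth.Agent.Disc957

open TensorProduct MvPolynomial

universe u

variable {A : Type u} [CommRing A] {n : ℕ}

theorem span_X_sub_C {B : Type u} [CommRing B] (b : Fin n → B) :
    Ideal.span (Set.range fun j => (X j - C (b j) : MvPolynomial (Fin n) B)) = RingHom.ker (eval b) := by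
  apply le_antisymm
  · rw [Ideal.span_le]
    rintro _ ⟨j, rfl⟩
    simp
  · intro p hp
    have key : ∀ p : MvPolynomial (Fin n) B, p - C (eval b p) ∈
        Ideal.span (Set.range fun j => (X j - C (b j) : MvPolynomial (Fin n) B)) := by
      intro p
      induction p using MvPolynomial.induction_on with
      | C a => simp
      | add p q hp hq =>
        have : p + q - C (eval b (p + q)) = (p - C (eval b p)) + (q - C (eval b q)) := by
          rw [map_add, map_add]; ring
        rw [this]
        exact add_mem hp hq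
      | mul_X p j hp =>
        have : p * X j - C (eval b (p * X j)) = (p - C (eval b p)) * X j + C (eval b p) * (X j - C (b j)) := by
          rw [map_mul, eval_X, map_mul]; ring
        rw [this]
        exact add_mem (Ideal.mul_mem_right _ _ hp) (Ideal.mul_mem_left _ _ (Ideal.subset_span ⟨j, rfl⟩))
    have := key p
    rwa [RingHom.mem_ker.mp hp, map_zero, sub_zero] at this

theorem dim_zero (κ F : Type u) [Field κ] [CommRing F] [Algebra κ F] [Module.Finite κ F] [Nontrivial F] :
    ringKrullDim F = 0 := by
  haveI : IsArtinianRing F := IsArtinianRing.of_finite κ F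
  exact ringKrullDimZero_iff_ringKrullDim_eq_zero.mp inferInstance

theorem isRelGCI_of_quasiFinite (f : Fin n → MvPolynomial (Fin n) A)
    [Algebra.QuasiFinite A (MvPolynomial (Fin n) A ⧸ Ideal.span (Set.range f))] :
    Synt.IsRelGCI A n n f := by
  intro p hp
  refine ⟨le_rfl, ?_⟩
  rw [Nat.sub_self, Nat.cast_zero]
  haveI := hp
  haveI : Module.Finite p.asIdeal.ResidueField (p.asIdeal.Fiber (Synt.RelGCIRing A n n f)) :=
    Algebra.QuasiFinite.finite_fiber p.asIdeal
  exact dim_zero p.asIdeal.ResidueField (p.asIdeal.Fiber (Synt.RelGCIRing A n n f))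

theorem koszul_X_sub_C {B : Type u} [CommRing B] (b : Fin n → B) :
    LCI.IsKoszulRegularSeq (MvPolynomial (Fin n) B) (List.ofFn fun j => X j - C (b j)) := by
  let G : Fin n → MvPolynomial (Fin n) B := fun j => X j - C (b j)
  haveI : Module.Finite B (MvPolynomial (Fin n) B ⧸ Ideal.span (Set.range G)) := by
    refine Module.Finite.of_surjective (Algebra.linearMap B _) ?_
    intro x
    obtain ⟨q, rfl⟩ := Ideal.Quotient.mk_surjective x
    refine ⟨eval b q, (Ideal.Quotient.eq.mpr ?_).symm⟩
    rw [span_X_sub_C, RingHom.mem_ker, map_sub, sub_eq_zero]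
    exact (eval_C (f := b) _).symm
  exact Groth.Agent.S9254.result B n n G (isRelGCI_of_quasiFinite G)

theorem noether_eq (f : Fin n → MvPolynomial (Fin n) A)
    [Algebra.QuasiFinite A (MvPolynomial (Fin n) A ⧸ Ideal.span (Set.range f))] :
    Module.Flat A (MvPolynomial (Fin n) A ⧸ Ideal.span (Set.range f)) ∧
      Disc.noetherDifferent A (MvPolynomial (Fin n) A ⧸ Ideal.span (Set.range f)) =
        Ideal.span {Ideal.Quotient.mk (Ideal.span (Set.range f))
          (Matrix.det (Matrix.of fun i j => pderiv j (f i)))} := by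
  classical
  let π : (MvPolynomial (Fin n) A) →ₐ[A] (MvPolynomial (Fin n) A ⧸ Ideal.span (Set.range f)) := Ideal.Quotient.mkₐ A (Ideal.span (Set.range f))
  have hgci := isRelGCI_of_quasiFinite f
  haveI hflat : Module.Flat A (MvPolynomial (Fin n) A ⧸ Ideal.span (Set.range f)) := (Groth.Agent.S9147.result A n n f hgci).1
  refine ⟨hflat, ?_⟩
  let b : Fin n → (MvPolynomial (Fin n) A ⧸ Ideal.span (Set.range f)) := fun j => π (X j)
  let E : ((MvPolynomial (Fin n) A) ⊗[A] (MvPolynomial (Fin n) A ⧸ Ideal.span (Set.range f))) ≃ₐ[A] (MvPolynomial (Fin n) (MvPolynomial (Fin n) A ⧸ Ideal.span (Set.range f))) := (Algebra.TensorProduct.comm A (MvPolynomial (Fin n) A) (MvPolynomial (Fin n) A ⧸ Ideal.span (Set.range f))).trans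
    ((MvPolynomial.algebraTensorAlgEquiv A (MvPolynomial (Fin n) A ⧸ Ideal.span (Set.range f))).restrictScalars A)
  have hE : ∀ (p : (MvPolynomial (Fin n) A)) (x : (MvPolynomial (Fin n) A ⧸ Ideal.span (Set.range f))), E (p ⊗ₜ x) = C x * MvPolynomial.map (algebraMap A (MvPolynomial (Fin n) A ⧸ Ideal.span (Set.range f))) p := fun p x => by
    show MvPolynomial.algebraTensorAlgEquiv A (MvPolynomial (Fin n) A ⧸ Ideal.span (Set.range f)) (x ⊗ₜ p) = _
    rw [MvPolynomial.algebraTensorAlgEquiv_tmul, Algebra.smul_def]
    rfl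
  have hev : ∀ p : (MvPolynomial (Fin n) A), eval b (MvPolynomial.map (algebraMap A (MvPolynomial (Fin n) A ⧸ Ideal.span (Set.range f))) p) = π p := fun p => by
    rw [eval_map, ← aeval_def]
    exact AlgHom.congr_fun (MvPolynomial.algHom_ext fun j => by rw [aeval_X] :
      aeval b = π) p
  let μ := Algebra.TensorProduct.productMap π (AlgHom.id A (MvPolynomial (Fin n) A ⧸ Ideal.span (Set.range f)))
  have hμ : ∀ t, μ t = eval b (E t) := fun t => by
    induction t with
    | zero => simp
    | add x y hx hy => rw [map_add, map_add, map_add, hx, hy]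
    | tmul p x =>
      rw [hE, map_mul, eval_C, hev]
      exact (Algebra.TensorProduct.productMap_apply_tmul _ _ _ _).trans (mul_comm _ _)
  let g : Fin n → (MvPolynomial (Fin n) A) ⊗[A] (MvPolynomial (Fin n) A ⧸ Ideal.span (Set.range f)) := fun j => E.symm (X j - C (b j))
  have hgker : Ideal.span (Set.range g) = RingHom.ker μ := by
    have : RingHom.ker μ = (RingHom.ker (eval b)).map (E.symm : (MvPolynomial (Fin n) (MvPolynomial (Fin n) A ⧸ Ideal.span (Set.range f))) →+* (MvPolynomial (Fin n) A) ⊗[A] (MvPolynomial (Fin n) A ⧸ Ideal.span (Set.range f))) := by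
      ext t
      rw [RingHom.mem_ker, hμ]
      constructor
      · intro h
        exact E.symm_apply_apply t ▸ Ideal.mem_map_of_mem _ h
      · intro h
        obtain ⟨q, hq, rfl⟩ := (Ideal.mem_map_iff_of_surjective _ E.symm.surjective).mp h
        refine Eq.trans (congrArg (eval b) (E.apply_symm_apply q)) ?_
        exact hq
    rw [this, ← span_X_sub_C, Ideal.map_span, ← Set.range_comp]
    rfl
  have hg : LCI.IsKoszulRegularSeq ((MvPolynomial (Fin n) A) ⊗[A] (MvPolynomial (Fin n) A ⧸ Ideal.span (Set.range f))) (List.ofFn g) := by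
    have h := Groth.Agent.Synt29.isKoszulRegularSeq_map_equiv (S := (MvPolynomial (Fin n) A) ⊗[A] (MvPolynomial (Fin n) A ⧸ Ideal.span (Set.range f))) E.symm.toRingEquiv
      (List.ofFn fun j => X j - C (b j)) (koszul_X_sub_C b)
    rw [List.map_ofFn] at h
    exact h
  have hmem : ∀ i, f i ⊗ₜ[A] (1 : (MvPolynomial (Fin n) A ⧸ Ideal.span (Set.range f))) ∈ Ideal.span (Set.range g) := fun i => by
    rw [hgker, RingHom.mem_ker]
    refine (Algebra.TensorProduct.productMap_apply_tmul _ _ _ _).trans ?_
    rw [show π (f i) = 0 from Ideal.Quotient.eq_zero_iff_mem.mpr (Ideal.subset_span ⟨i, rfl⟩), zero_mul]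
  choose c hc using fun i => Ideal.mem_span_range_iff_exists_fun.mp (hmem i)
  have hJ : ∀ i k, eval b (E (c i k)) = π (pderiv k (f i)) := fun i k => by
    have h := congrArg (fun t => eval b (pderiv k (E t))) (hc i).symm
    simp only [map_sum, map_mul, g, AlgEquiv.apply_symm_apply, hE, map_one, one_mul, pderiv_map] at h
    rw [hev] at h
    rw [h]
    simp [Derivation.leibniz, Pi.single_apply]
  have h2 := Groth.Agent.S2235.result f (Groth.Agent.S9254.result A n n f hgci) g hg hgker (Matrix.of c)
    (fun i => (hc i).symm)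
  let E' : ((MvPolynomial (Fin n) A) ⊗[A] (MvPolynomial (Fin n) A ⧸ Ideal.span (Set.range f))) →+*
      MvPolynomial (Fin n) (MvPolynomial (Fin n) A ⧸ Ideal.span (Set.range f)) :=
    { toFun := fun t => E t
      map_one' := map_one E
      map_mul' := fun x y => map_mul E x y
      map_zero' := map_zero E
      map_add' := fun x y => map_add E x y }
  have hd := RingHom.map_det (S := MvPolynomial (Fin n) (MvPolynomial (Fin n) A ⧸ Ideal.span (Set.range f))) E' (Matrix.of c)
  rw [Disc.noetherDifferent]
  refine (congrArg (Ideal.map _) h2).trans ?_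
  rw [Ideal.map_span, Set.image_singleton]
  refine congrArg (fun x => Ideal.span {x}) ?_
  show ((Algebra.TensorProduct.lmul' A (S := (MvPolynomial (Fin n) A ⧸ Ideal.span (Set.range f)))).comp
    (Algebra.TensorProduct.map π (AlgHom.id A (MvPolynomial (Fin n) A ⧸ Ideal.span (Set.range f))))) (Matrix.of c).det = π _
  rw [show (Algebra.TensorProduct.lmul' A (S := (MvPolynomial (Fin n) A ⧸ Ideal.span (Set.range f)))).comp
    (Algebra.TensorProduct.map π (AlgHom.id A (MvPolynomial (Fin n) A ⧸ Ideal.span (Set.range f)))) = μ from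
      Algebra.TensorProduct.ext' fun p x => by simp [μ], hμ,
    show π (Matrix.det (Matrix.of fun i j => pderiv j (f i))) =
      (Matrix.of fun i j => π (pderiv j (f i))).det from AlgHom.map_det π _,
    show E (Matrix.of c).det = (Matrix.of fun i j => E (c i j)).det from
      hd,
    show eval b (Matrix.of fun i j => E (c i j)).det = (Matrix.of fun i j => eval b (E (c i j))).det from
      RingHom.map_det (R := MvPolynomial (Fin n) (MvPolynomial (Fin n) A ⧸ Ideal.span (Set.range f))) (S := MvPolynomial (Fin n) A ⧸ Ideal.span (Set.range f)) (eval b) _]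
  congr 1
  ext i k
  exact hJ i k

end Groth.Agent.Disc957
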