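import Groth.Agent.Disc957.Fitting
import Groth.Agent.Disc957.Noether
import Groth.Agent.S9169
import Groth.Agent.S2220
import Mathlib

/-! The Kähler and Noether differents of a quasi-finite syntomic algebra agree. -/

set_option autoImplicit false
noncomputable section

namespace Groth.Agent.Disc957

open TensorProduct AlgebraicGeometry

universe u

variable {A : Type u} [CommRing A]

theorem noether_map_away {B L : Type u} [CommRing B] [CommRing L] [Algebra A B] [Algebra A L]
    [Algebra B L] [IsScalarTower A B L] [Algebra.FiniteType A B] (g : B) [IsLocalization.Away g L] :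
    Disc.noetherDifferent A L = (Disc.noetherDifferent A B).map (algebraMap B L) :=
  Groth.Agent.S2220.result (IsOpenImmersion.of_isLocalization g)

theorem fitting_map_away {B L : Type u} [CommRing B] [CommRing L] [Algebra A B] [Algebra A L]
    [Algebra B L] [IsScalarTower A B L] [Algebra.FiniteType A B] (g : B) [IsLocalization.Away g L] :
    Fitt.ideal L Ω[L⁄A] 0 = (Fitt.ideal B Ω[B⁄A] 0).map (algebraMap B L) := by
  haveI : Algebra.FormallyEtale B L := Algebra.FormallyEtale.of_isLocalization (Submonoid.powers g)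
  exact FittX.ideal_baseChange (KaehlerDifferential.isBaseChange_of_formallyEtale A B L) 0

theorem away_eq {B : Type u} [CommRing B] [Algebra A B] [Algebra.QuasiFinite A B]
    [Algebra.FiniteType A B] (g : B) (q : Ideal B) [q.IsPrime] (hg : g ∉ q) (n c : ℕ)
    (F : Fin c → MvPolynomial (Fin n) A) (hF : Synt.IsRelGCI A n c F)
    (φ : Localization.Away g ≃ₐ[A] Synt.RelGCIRing A n c F) :
    (Disc.noetherDifferent A B).map (algebraMap B (Localization.Away g)) =
      (Fitt.ideal B Ω[B⁄A] 0).map (algebraMap B (Localization.Away g)) := by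
  haveI : Algebra.QuasiFinite A (Synt.RelGCIRing A n c F) :=
    Algebra.QuasiFinite.of_surjective_algHom φ.toAlgHom φ.surjective
  let p : Ideal A := q.under A
  haveI : Nontrivial (p.Fiber (Synt.RelGCIRing A n c F)) := by
    have hu : ∀ y : Submonoid.powers g, IsUnit (IsScalarTower.toAlgHom A B q.ResidueField y) := by
      rintro ⟨_, k, rfl⟩
      rw [map_pow]
      refine IsUnit.pow k (isUnit_iff_ne_zero.mpr fun h => hg ?_)
      exact Ideal.algebraMap_residueField_eq_zero.mp h
    let ψ : Synt.RelGCIRing A n c F →ₐ[A] q.ResidueField :=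
      (IsLocalization.liftAlgHom (M := Submonoid.powers g) (S := Localization.Away g) hu).comp φ.symm.toAlgHom
    exact (Algebra.TensorProduct.lift (Ideal.ResidueField.mapₐ p q (Algebra.ofId A B) rfl) ψ
      fun _ _ => mul_comm _ _).toRingHom.domain_nontrivial
  haveI : Module.Finite p.ResidueField (p.Fiber (Synt.RelGCIRing A n c F)) :=
    Algebra.QuasiFinite.finite_fiber p
  obtain ⟨hcn, hdim⟩ := hF ⟨p, inferInstance⟩ ‹_›
  rw [dim_zero p.ResidueField (p.Fiber (Synt.RelGCIRing A n c F))] at hdim
  obtain rfl : c = n := by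
    have : n - c = 0 := by exact_mod_cast hdim.symm
    omega
  letI : Algebra (Synt.RelGCIRing A c c F) (Localization.Away g) := φ.symm.toAlgHom.toRingHom.toAlgebra
  haveI : IsScalarTower A (Synt.RelGCIRing A c c F) (Localization.Away g) :=
    IsScalarTower.of_algebraMap_eq (R := A) (S := Synt.RelGCIRing A c c F) (A := Localization.Away g)
      fun r => (φ.symm.commutes r).symm
  haveI : IsLocalization.Away (1 : Synt.RelGCIRing A c c F) (Localization.Away g) :=
    IsLocalization.away_of_isUnit_of_bijective _ isUnit_one φ.symm.bijective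
  rw [← noether_map_away (A := A) (L := Localization.Away g) g,
    ← fitting_map_away (A := A) (L := Localization.Away g) g,
    noether_map_away (A := A) (B := Synt.RelGCIRing A c c F) (L := Localization.Away g) 1,
    fitting_map_away (A := A) (B := Synt.RelGCIRing A c c F) (L := Localization.Away g) 1]
  refine congrArg (Ideal.map _) ?_
  exact (noether_eq F).2.trans (fitting_eq A c F).symm

theorem le_of_map_away_le {B : Type u} [CommRing B] (I J : Ideal B)
    (h : ∀ q : Ideal B, q.IsMaximal → ∃ g, g ∉ q ∧
      I.map (algebraMap B (Localization.Away g)) ≤ J.map (algebraMap B (Localization.Away g))) :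
    I ≤ J := by
  intro x hx
  by_contra hxJ
  have hne : (J.colon ({x} : Set B) : Ideal B) ≠ ⊤ := fun ht => hxJ (by
    have := Submodule.mem_colon_singleton.mp (ht ▸ Submodule.mem_top : (1 : B) ∈ J.colon ({x} : Set B))
    simpa using this)
  obtain ⟨q, hq, hle⟩ := Ideal.exists_le_maximal _ hne
  obtain ⟨g, hg, hmap⟩ := h q hq
  obtain ⟨m, hm, hmem⟩ := (IsLocalization.algebraMap_mem_map_algebraMap_iff (Submonoid.powers g) _ J x).mp
    (hmap (Ideal.mem_map_of_mem _ hx))
  obtain ⟨k, rfl⟩ := hm
  exact hg (hq.isPrime.mem_of_pow_mem k (hle (Submodule.mem_colon_singleton.mpr hmem)))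

theorem noether_eq_fitting (A B : Type u) [CommRing A] [CommRing B] [Algebra A B] [Module.Finite A B]
    (h : Synt.IsSyntomic A B) :
    Disc.noetherDifferent A B = Fitt.ideal B Ω[B⁄A] 0 := by
  have key : ∀ q : Ideal B, q.IsMaximal → ∃ g, g ∉ q ∧
      (Disc.noetherDifferent A B).map (algebraMap B (Localization.Away g)) =
        (Fitt.ideal B Ω[B⁄A] 0).map (algebraMap B (Localization.Away g)) := by
    intro q hq
    haveI : q.IsPrime := hq.isPrime
    let p : Ideal A := q.under A
    let θ := (Algebra.TensorProduct.lift (Ideal.ResidueField.mapₐ p q (Algebra.ofId A B) rfl)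
      (IsScalarTower.toAlgHom A B q.ResidueField) fun _ _ => mul_comm _ _)
    haveI : (RingHom.ker θ).IsPrime := RingHom.ker_isPrime θ
    have hQ : (RingHom.ker θ).comap
        (Algebra.TensorProduct.includeRight : B →ₐ[A] p.Fiber B).toRingHom = q := by
      ext b
      show θ (1 ⊗ₜ b) = 0 ↔ b ∈ q
      simp only [θ, Algebra.TensorProduct.lift_tmul, map_one, one_mul, IsScalarTower.coe_toAlgHom']
      exact Ideal.algebraMap_residueField_eq_zero
    haveI : IsLocalization.Away (1 : B) (Localization.Away (1 : B)) := inferInstance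
    have h1 : Synt.IsSyntomic A (Localization.Away (1 : B)) :=
      Groth.Agent.Synt29.isSyntomic_away_target h 1 _
    obtain ⟨g, hg, n, c, F, hF, ⟨φ⟩⟩ := (Groth.Agent.S9169.result A B p q (RingHom.ker θ) hQ).1.mp
      ⟨1, (Ideal.ne_top_iff_one q).mp hq.ne_top, h1⟩
    exact ⟨g, hg, away_eq g q hg n c F hF φ⟩
  apply le_antisymm
  · exact le_of_map_away_le _ _ fun q hq => let ⟨g, hg, he⟩ := key q hq; ⟨g, hg, he.le⟩
  · exact le_of_map_away_le _ _ fun q hq => let ⟨g, hg, he⟩ := key q hq; ⟨g, hg, he.ge⟩

end Groth.Agent.Disc957
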