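import Groth.Agent.DiffLib.Basic

/-! The different and the Noether different of a finite free algebra have the same radical. -/

set_option autoImplicit false

universe u v

open TensorProduct Groth.Agent.DiffLib

namespace Groth.Agent.Disc957

variable {A : Type u} {B : Type v} [CommRing A] [CommRing B] [Algebra A B]
  {ι : Type*} [Fintype ι] [DecidableEq ι] (b : Module.Basis ι A B)

theorem pair_comm (l m : Disc.Omega A B) (η : B ⊗[A] B) :
    l.toLinearMap (ev m (Algebra.TensorProduct.comm A B B η)) = m.toLinearMap (ev l η) := by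
  induction η using TensorProduct.induction_on with
  | zero => simp
  | tmul x y => simp [mul_comm]
  | add s t hs ht => simp only [map_add, hs, ht]

theorem ev_smul_comm {ξ : B ⊗[A] B}
    (hξ : ξ ∈ Submodule.annihilator (RingHom.ker (Algebra.TensorProduct.lmul' (S := B) A)))
    (l m : Disc.Omega A B) :
    ev l ξ • m = ev m (Algebra.TensorProduct.comm A B B ξ) • l := by
  refine Disc.Omega.ext (LinearMap.ext fun x => ?_)
  rw [Disc.Omega.smul_toLinearMap_apply, Disc.Omega.smul_toLinearMap_apply, mul_comm _ x, mul_comm _ x,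
    mul_ev, mul_ev, show ((1 : B) ⊗ₜ[A] x) * Algebra.TensorProduct.comm A B B ξ =
      Algebra.TensorProduct.comm A B B ((x ⊗ₜ[A] (1 : B)) * ξ) by
        rw [map_mul, Algebra.TensorProduct.comm_tmul],
    pair_comm, (mem_annihilator_iff ξ).mp hξ x]

variable [Module.Finite A B] [Module.Free A B]

include b in
theorem noether_subset_different :
    (Disc.noetherDifferent A B : Set B) ⊆ Disc.differentSet A B := by
  intro y hy
  rw [SetLike.mem_coe, Disc.noetherDifferent,
    Ideal.mem_map_iff_of_surjective _ (fun y => ⟨y ⊗ₜ 1, by simp⟩)] at hy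
  obtain ⟨ξ, hξ, rfl⟩ := hy
  intro φ
  refine ⟨ev ⟨φ⟩ (Algebra.TensorProduct.comm A B B ξ), fun x => ?_⟩
  have hy : Algebra.TensorProduct.lmul' A ξ = ev (Disc.Omega.trace A B) ξ := by
    conv_lhs => rw [eq_mkXi b ξ]
    rw [← sum_smul_coord b, mkXi, map_sum]
    have hev : ∀ (s : Finset ι) (l : ι → Disc.Omega A B), ev (∑ i ∈ s, l i) ξ = ∑ i ∈ s, ev (l i) ξ :=
      fun s l => map_sum (AddMonoidHom.mk' (fun l => ev l ξ) fun l l' => ev_add l l' ξ) l s
    rw [hev]
    refine Finset.sum_congr rfl fun i _ => ?_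
    rw [Algebra.TensorProduct.lmul'_apply_tmul, ev_smul, (mem_annihilator_iff ξ).mp hξ (b i), ← mul_ev]
  rw [hy]
  exact congrArg (fun m : Disc.Omega A B => m.toLinearMap x)
    (ev_smul_comm hξ (Disc.Omega.trace A B) ⟨φ⟩)

include b in
theorem sq_mem_noether {y : B} (hy : y ∈ Disc.differentSet A B) :
    y ^ 2 ∈ Disc.noetherDifferent A B := by
  choose c hc using fun i => hy (coord b i).toLinearMap
  have hc' : ∀ i, y • coord b i = c i • Disc.Omega.trace A B := fun i =>
    Disc.Omega.ext (LinearMap.ext fun x => hc i x)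
  have hkill : ∀ w : B, w • Disc.Omega.trace A B = 0 → y * w = 0 := fun w hw => by
    refine b.repr.injective (Finsupp.ext fun i => ?_)
    have h : (y * w) • coord b i = 0 := by
      rw [mul_comm, mul_smul, hc', smul_comm, hw, smul_zero]
    have h1 := congrArg (fun m : Disc.Omega A B => m.toLinearMap 1) h
    rw [map_zero, Finsupp.zero_apply]
    simpa [coord] using h1
  let S : Disc.Omega A B →+ B :=
    AddMonoidHom.mk' (fun l => ev l (∑ i, b i ⊗ₜ c i)) fun l l' => ev_add l l' _
  have hS : ∀ l, S l • Disc.Omega.trace A B = y • l := fun l => by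
    have hl : ∑ i, algebraMap A B (l.toLinearMap (b i)) • coord b i = l := by
      refine Disc.Omega.ext (LinearMap.ext fun x => ?_)
      let π : Disc.Omega A B →+ A := AddMonoidHom.mk' (fun l => l.toLinearMap x) fun _ _ => rfl
      show π _ = _
      rw [map_sum]
      conv_rhs => rw [← b.sum_repr x, map_sum]
      refine Finset.sum_congr rfl fun i _ => ?_
      simp only [π, coord, AddMonoidHom.mk'_apply, Disc.Omega.smul_toLinearMap_apply, ← Algebra.smul_def,
        map_smul, Module.Basis.coord_apply, smul_eq_mul]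
      exact mul_comm _ _
    conv_rhs => rw [← hl, Finset.smul_sum]
    simp only [S, AddMonoidHom.mk'_apply, map_sum, Finset.sum_smul, ev_tmul]
    refine Finset.sum_congr rfl fun i _ => ?_
    rw [Algebra.smul_def, mul_smul, smul_comm y, hc']
  let ξ : B ⊗[A] B := ((1 : B) ⊗ₜ[A] y) * ∑ i, b i ⊗ₜ c i
  have hξ : ξ ∈ Submodule.annihilator (RingHom.ker (Algebra.TensorProduct.lmul' (S := B) A)) := by
    refine (mem_annihilator_iff ξ).mpr fun w => ev_injective b fun l => ?_
    rw [← ev_smul, ← mul_ev]
    simp only [ξ, ← mul_ev]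
    show y * S (w • l) = w * (y * S l)
    rw [mul_left_comm w y, ← sub_eq_zero, ← mul_sub]
    refine hkill _ ?_
    rw [sub_smul, mul_smul, hS, hS, smul_comm, sub_self]
  rw [Disc.noetherDifferent, Ideal.mem_map_iff_of_surjective _ (fun y => ⟨y ⊗ₜ 1, by simp⟩)]
  refine ⟨ξ, hξ, ?_⟩
  simp only [ξ, map_mul, map_sum, Algebra.TensorProduct.lmul'_apply_tmul, one_mul]
  rw [sq, ← sub_eq_zero, ← mul_sub]
  refine hkill _ ?_
  rw [sub_smul, Finset.sum_smul, ← sum_smul_coord b, Finset.smul_sum, ← Finset.sum_sub_distrib]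
  refine Finset.sum_eq_zero fun i _ => ?_
  rw [sum_smul_coord b, mul_smul, ← hc', smul_comm, sub_self]

end Groth.Agent.Disc957
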